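import Groth.Agent.Unibranch.TrDeg
import Groth.Agent.DimFormula.Field
import Groth.Agent.H4Easy.Batch2
/-!
The dimension function of a finite type algebra over a Prüfer domain.
-/
set_option autoImplicit false
set_option linter.style.haveILetI false
set_option backward.isDefEq.respectTransparency false
universe u
open PrimeSpectrum

namespace Groth.Agent.PruferDim

open Unibranch

variable {R S : Type u} [CommRing R] [CommRing S] [Algebra R S]

/-- In a Prüfer domain finitely many elements have one dividing all others up to a scalar prime to `p`. -/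
theorem exists_smul_dvd [IsDomain R] {ι : Type u} (p : Ideal R) [p.IsPrime] [ValuationRing (Localization.AtPrime p)]
    (f : ι → R) (s : Finset ι) (hs : s.Nonempty) : ∃ i ∈ s, ∃ t ∉ p, ∀ j ∈ s, f i ∣ t * f j := by
  classical
  obtain ⟨i, hi, hdvd⟩ := exists_dvd_forall s hs fun j => algebraMap R (Localization.AtPrime p) (f j)
  have h : ∀ j ∈ s, ∃ t ∉ p, f i ∣ t * f j := fun j hj => by
    obtain ⟨w, hw⟩ := hdvd j hj
    obtain ⟨⟨a, ⟨b, hb⟩⟩, hab⟩ := IsLocalization.surj p.primeCompl w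
    refine ⟨b, hb, a, IsLocalization.injective (Localization.AtPrime p) p.primeCompl_le_nonZeroDivisors ?_⟩
    rw [map_mul, map_mul, hw, ← hab]
    ring
  choose! t ht hd using h
  refine ⟨i, hi, ∏ j ∈ s, t j, fun h => ?_, fun j hj => (hd j hj).trans ?_⟩
  · obtain ⟨j, hj, hj'⟩ := (Ideal.IsPrime.prod_mem_iff.1 h)
    exact ht j hj hj'
  · exact mul_dvd_mul_right (Finset.dvd_prod_of_mem t hj) _

section Mono

variable [IsDomain R] (hR : ∀ (p : Ideal R) [p.IsPrime], ValuationRing (Localization.AtPrime p))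
include hR

theorem genAt_of_le {σ : Type u} [Finite σ] (t : σ → S) (n q : Ideal S) [n.IsPrime] [q.IsPrime] (hqn : q ≤ n)
    (h : GenAt (A := R) t n) : GenAt (A := R) t q := by
  classical
  rw [genAt_iff_comap] at h ⊢
  refine le_antisymm (fun P hP => ?_) (Ideal.map_le_iff_le_comap.2 fun a ha => by
    simpa [Ideal.mem_comap, Ideal.under_def] using ha)
  rw [MvPolynomial.mem_map_C_iff]
  by_contra hne
  push Not at hne
  obtain ⟨m₀, hm₀⟩ := hne
  have hne' : P.support.Nonempty := ⟨m₀, MvPolynomial.mem_support_iff.2 fun h0 => hm₀ (by rw [h0]; exact zero_mem _)⟩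
  haveI := hR (n.under R)
  obtain ⟨m, hm, s, hs, hdvd⟩ := exists_smul_dvd (n.under R) (fun m ↦ MvPolynomial.coeff m P) P.support hne'
  set c := MvPolynomial.coeff m P with hc
  have hc0 : c ≠ 0 := MvPolynomial.mem_support_iff.mp hm
  have hdvd' : ∀ i, c ∣ (MvPolynomial.C s * P).coeff i := fun i => by
    rw [MvPolynomial.coeff_C_mul]
    by_cases hi : i ∈ P.support
    · exact hdvd i hi
    · rw [MvPolynomial.notMem_support_iff.mp hi, mul_zero]; exact dvd_zero c
  have hcq : c ∉ q.under R := fun hcq => by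
    obtain ⟨d, hd⟩ := hdvd' m₀
    rw [MvPolynomial.coeff_C_mul] at hd
    rcases (inferInstance : (q.under R).IsPrime).mem_or_mem (hd ▸ Ideal.mul_mem_right d _ hcq) with h1 | h1
    · exact hs (Ideal.comap_mono hqn h1)
    · exact hm₀ h1
  obtain ⟨P', hP'⟩ : MvPolynomial.C c ∣ MvPolynomial.C s * P := MvPolynomial.C_dvd_iff_dvd_coeff _ _ |>.2 hdvd'
  have hcoeff : MvPolynomial.coeff m P' = s := by
    have := congrArg (MvPolynomial.coeff m) hP'
    rw [MvPolynomial.coeff_C_mul, MvPolynomial.coeff_C_mul, ← hc, mul_comm s c] at this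
    exact (mul_left_cancel₀ hc0 this).symm
  have hP'q : MvPolynomial.aeval (R := R) t P' ∈ q := by
    have h1 : MvPolynomial.aeval (R := R) t (MvPolynomial.C s * P) ∈ q := by
      rw [map_mul]; exact q.mul_mem_left _ hP
    rw [hP', map_mul, MvPolynomial.aeval_C] at h1
    exact ((inferInstance : q.IsPrime).mem_or_mem h1).resolve_left fun h2 ↦ hcq h2
  have h4 : P' ∈ n.comap (MvPolynomial.aeval (R := R) t).toRingHom := hqn hP'q
  rw [h, MvPolynomial.mem_map_C_iff] at h4
  exact hs (hcoeff ▸ h4 m)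

theorem rdim_le_of_le [Algebra.FiniteType R S] {P Q : Ideal S} [P.IsPrime] [Q.IsPrime] (h : P ≤ Q) :
    rdim R Q ≤ rdim R P := by
  obtain ⟨t, ht, -⟩ := exists_genAt (A := R) Q
  simpa using (genAt_of_le hR t Q P h ht).card_le

end Mono

/-- Localising a domain over a domain does not change the transcendence degree. -/
theorem trdeg_eq_of_injective {A D F : Type u} [CommRing A] [IsDomain A] [CommRing D] [CommRing F] [IsDomain F]
    [Algebra A D] [Algebra A F] (j : D →ₐ[A] F) (hj : Function.Injective j)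
    (hA : Function.Injective (algebraMap A D)) (halg : ∀ x : F, ∃ d : D, d ≠ 0 ∧ ∃ e : D, j d * x = j e) :
    Algebra.trdeg A D = Algebra.trdeg A F := by
  letI := j.toRingHom.toAlgebra
  haveI : IsScalarTower A D F := IsScalarTower.of_algebraMap_eq fun a => (j.commutes a).symm
  haveI : FaithfulSMul A D := (faithfulSMul_iff_algebraMap_injective A D).2 hA
  haveI : FaithfulSMul D F := (faithfulSMul_iff_algebraMap_injective D F).2 hj
  haveI : IsDomain D := hj.isDomain (f := j.toRingHom)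
  haveI : Algebra.IsAlgebraic D F := ⟨fun x => by
    obtain ⟨d, hd, e, he⟩ := halg x
    have h2 : IsAlgebraic D (algebraMap D F d * x) := he ▸ isAlgebraic_algebraMap e
    exact IsAlgebraic.of_mul (y := algebraMap D F d)
      (mem_nonZeroDivisors_of_ne_zero fun h => hd (hj (h.trans (map_zero j).symm))) (isAlgebraic_algebraMap d) h2⟩
  rw [← trdeg_add_eq A D (A := F), trdeg_eq_zero (R := D) (A := F), add_zero]

/-- A height one prime over zero drops the transcendence degree by one. -/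
theorem trdeg_eq_succ {A D : Type u} [CommRing A] [IsDomain A] [CommRing D] [IsDomain D] [Algebra A D]
    [Algebra.FiniteType A D] (hAD : Function.Injective (algebraMap A D)) (Q : Ideal D) [Q.IsPrime]
    (h0 : ∀ a, algebraMap A D a ∈ Q → a = 0) (hne : Q ≠ ⊥)
    (hcov : ∀ J : Ideal D, J.IsPrime → J ≤ Q → J ≠ ⊥ → J = Q) :
    Algebra.trdeg A D = Algebra.trdeg A (D ⧸ Q) + 1 := by
  let M := Algebra.algebraMapSubmonoid D (nonZeroDivisors A)
  let F := Localization M
  let K := FractionRing A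
  have hM : M ≤ nonZeroDivisors D := by
    rintro _ ⟨a, ha, rfl⟩
    exact mem_nonZeroDivisors_of_ne_zero fun h => nonZeroDivisors.ne_zero ha (hAD (h.trans (map_zero _).symm))
  haveI : IsDomain F := IsLocalization.isDomain_of_le_nonZeroDivisors F hM
  letI : Algebra K F := localizationAlgebra (nonZeroDivisors A) D
  haveI : IsScalarTower A K F := IsScalarTower.of_algebraMap_eq' (IsLocalization.map_comp _).symm
  let π : TensorProduct A K D →ₐ[K] F :=
    Algebra.TensorProduct.lift (Algebra.ofId K F) (IsScalarTower.toAlgHom A D F) fun _ _ => Commute.all _ _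
  have hπ : Function.Surjective π := by
    intro x
    obtain ⟨⟨d, ⟨_, a, ha, rfl⟩⟩, hx⟩ := IsLocalization.surj M x
    refine ⟨IsLocalization.mk' K 1 (⟨a, ha⟩ : nonZeroDivisors A) ⊗ₜ d, ?_⟩
    have hu : IsUnit (algebraMap A F a) := by
      rw [IsScalarTower.algebraMap_apply A D F]
      exact IsLocalization.map_units F (⟨_, a, ha, rfl⟩ : M)
    have he : algebraMap A K a * IsLocalization.mk' K 1 (⟨a, ha⟩ : nonZeroDivisors A) = 1 :=
      (IsLocalization.mk'_spec' K 1 (⟨a, ha⟩ : nonZeroDivisors A)).trans (map_one _)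
    apply hu.mul_left_cancel
    simp only [π, Algebra.TensorProduct.lift_tmul, IsScalarTower.coe_toAlgHom', Algebra.ofId_apply]
    rw [← mul_assoc, IsScalarTower.algebraMap_apply A K F, ← map_mul, he, map_one, one_mul,
      ← IsScalarTower.algebraMap_apply A K F, IsScalarTower.algebraMap_apply A D F, ← hx, mul_comm]
  haveI : Algebra.FiniteType K F := Algebra.FiniteType.of_surjective π hπ
  have hdisj : Disjoint (M : Set D) (Q : Set D) := by
    rw [Set.disjoint_left]
    rintro _ ⟨a, ha, rfl⟩ h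
    exact nonZeroDivisors.ne_zero ha (h0 a h)
  let q : Ideal F := Q.map (algebraMap D F)
  haveI : q.IsPrime := IsLocalization.isPrime_of_isPrime_disjoint M F Q inferInstance hdisj
  have hqQ : q.comap (algebraMap D F) = Q := IsLocalization.under_map_of_isPrime_disjoint M F inferInstance hdisj
  have hbot : (⊥ : Ideal F).comap (algebraMap D F) = ⊥ := by
    rw [← RingHom.ker_eq_comap_bot, (RingHom.injective_iff_ker_eq_bot _).1 (IsLocalization.injective F hM)]
  obtain ⟨h, t, s, hh, ht, hs, hsum⟩ := DimFormula.exists_height_add_trdeg K q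
  have hq1 : q.height = 1 := by
    rw [show q = (⟨q, inferInstance⟩ : PrimeSpectrum F).asIdeal from rfl, height_eq_orderHeight]
    refine le_antisymm ?_ ?_
    · rw [Order.height_eq_iSup_lt_height]
      refine iSup₂_le fun r hr => ?_
      have hr0 : r = ⊥ := by
        by_contra hne'
        have h1 : r.asIdeal.comap (algebraMap D F) ≠ ⊥ := fun e => hne' (localization_comap_injective F M
          (PrimeSpectrum.ext (e.trans hbot.symm)))
        have h2 := hcov _ inferInstance ((Ideal.comap_mono hr.le).trans hqQ.le) h1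
        exact hr.ne (localization_comap_injective F M (PrimeSpectrum.ext (h2.trans hqQ.symm)))
      rw [hr0, Order.height_bot, zero_add]
    · refine le_trans (le_add_self) (Order.height_add_one_le (a := (⊥ : PrimeSpectrum F)) ?_)
      refine bot_lt_iff_ne_bot.2 fun e => hne ?_
      have e' : q = ⊥ := congrArg PrimeSpectrum.asIdeal e
      rw [← hqQ, e', hbot]
  rw [hq1] at hh
  obtain rfl : h = 1 := by exact_mod_cast hh.symm
  have hK : ∀ (G : Type u) [CommRing G] [IsDomain G] [Algebra K G] [Algebra A G] [IsScalarTower A K G],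
      Algebra.trdeg A G = Algebra.trdeg K G := by
    intro G _ _ _ _ _
    haveI : FaithfulSMul K G := (faithfulSMul_iff_algebraMap_injective K G).2 (algebraMap K G).injective
    haveI : Algebra.IsAlgebraic A K := IsLocalization.isAlgebraic K (nonZeroDivisors A)
    rw [← trdeg_add_eq A K (A := G), trdeg_eq_zero (R := A) (A := K), zero_add]
  have hP : Algebra.trdeg A D = s := by
    rw [trdeg_eq_of_injective (IsScalarTower.toAlgHom A D F) (IsLocalization.injective F hM) hAD, hK F, hs]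
    intro x
    obtain ⟨⟨d, m⟩, hx⟩ := IsLocalization.surj M x
    exact ⟨m, nonZeroDivisors.ne_zero (hM m.2), d, by rw [mul_comm]; exact hx⟩
  let j : D ⧸ Q →ₐ[A] F ⧸ q := Ideal.quotientMapₐ q (IsScalarTower.toAlgHom A D F) hqQ.ge
  have hQd : Algebra.trdeg A (D ⧸ Q) = t := by
    rw [trdeg_eq_of_injective (A := A) (D := D ⧸ Q) (F := F ⧸ q) j
      (Ideal.quotientMap_injective' (H := hqQ.ge) hqQ.le), hK (F ⧸ q), ht]
    · intro a b hab
      rw [← sub_eq_zero] at hab ⊢
      rw [← map_sub] at hab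
      exact h0 _ (Ideal.Quotient.eq_zero_iff_mem.1 hab)
    · intro x
      obtain ⟨x, rfl⟩ := Ideal.Quotient.mk_surjective x
      obtain ⟨⟨d, m⟩, hx⟩ := IsLocalization.surj M x
      refine ⟨Ideal.Quotient.mk _ (m : D), fun h => Set.disjoint_left.1 hdisj m.2 (Ideal.Quotient.eq_zero_iff_mem.1 h),
        Ideal.Quotient.mk _ d, ?_⟩
      show Ideal.Quotient.mk q (algebraMap D F (m : D)) * Ideal.Quotient.mk q x = Ideal.Quotient.mk q (algebraMap D F d)
      rw [← map_mul, mul_comm, hx]
  rw [hP, hQd, ← hsum]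
  push_cast
  ring

/-- A cover inside a fibre drops the relative dimension by one. -/
theorem rdim_eq_succ [Algebra.FiniteType R S] (P Q : PrimeSpectrum S) (hPQ : P ⋖ Q)
    (hu : P.asIdeal.under R = Q.asIdeal.under R) : rdim R P.asIdeal = rdim R Q.asIdeal + 1 := by
  let p := P.asIdeal.under R
  haveI : P.asIdeal.LiesOver p := ⟨rfl⟩
  haveI : Q.asIdeal.LiesOver p := ⟨hu⟩
  haveI : IsDomain (R ⧸ p) := Ideal.Quotient.isDomain p
  haveI : Algebra.FiniteType (R ⧸ p) (S ⧸ P.asIdeal) := finiteType_quotient_under P.asIdeal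
  let Q' : Ideal (S ⧸ P.asIdeal) := Q.asIdeal.map (Ideal.Quotient.mk P.asIdeal)
  have hQ' : Q'.comap (Ideal.Quotient.mk P.asIdeal) = Q.asIdeal := by
    rw [Ideal.comap_map_of_surjective _ Ideal.Quotient.mk_surjective, ← RingHom.ker_eq_comap_bot,
      Ideal.mk_ker, sup_eq_left.2 (show P.asIdeal ≤ Q.asIdeal from hPQ.le)]
  haveI : Q'.IsPrime := Ideal.map_isPrime_of_surjective Ideal.Quotient.mk_surjective (by
    rw [Ideal.mk_ker]; exact hPQ.le)
  have hb : (⊥ : Ideal (S ⧸ P.asIdeal)).comap (Ideal.Quotient.mk P.asIdeal) = P.asIdeal := by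
    rw [← RingHom.ker_eq_comap_bot, Ideal.mk_ker]
  have key := trdeg_eq_succ (A := R ⧸ p) (D := S ⧸ P.asIdeal) (algebraMap_injective_quotient_under P.asIdeal) Q'
    (fun a ha => by
      obtain ⟨a, rfl⟩ := Ideal.Quotient.mk_surjective a
      rw [Ideal.Quotient.eq_zero_iff_mem, show p = Q.asIdeal.under R from hu, Ideal.under_def, Ideal.mem_comap, ← hQ']
      exact ha)
    (fun e => hPQ.1.ne (PrimeSpectrum.ext (by rw [← hb, ← hQ', e])))
    (fun J hJ hJQ hJ0 => by
      by_contra hne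
      have hinj := Ideal.comap_injective_of_surjective (Ideal.Quotient.mk P.asIdeal) Ideal.Quotient.mk_surjective
      refine hPQ.2 (c := ⟨J.comap (Ideal.Quotient.mk P.asIdeal), inferInstance⟩)
        (lt_of_le_of_ne (hb.ge.trans (Ideal.comap_mono bot_le)) fun e => hJ0 (hinj ?_))
        (lt_of_le_of_ne ((Ideal.comap_mono hJQ).trans hQ'.le) fun e => hne (hinj ?_))
      · exact (congrArg PrimeSpectrum.asIdeal e).symm.trans hb.symm
      · exact (congrArg PrimeSpectrum.asIdeal e).trans hQ'.symm)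
  let e : ((S ⧸ P.asIdeal) ⧸ Q') ≃ₐ[R ⧸ p] S ⧸ Q.asIdeal :=
    AlgEquiv.ofRingEquiv (f := DoubleQuot.quotQuotEquivQuotOfLE (show P.asIdeal ≤ Q.asIdeal from hPQ.le)) fun a => by
      obtain ⟨a, rfl⟩ := Ideal.Quotient.mk_surjective a
      rfl
  rw [e.trdeg_eq, ← natCast_rdim (A := R) P.asIdeal] at key
  have hcast : ∀ p' : Ideal R, ∀ [Q.asIdeal.LiesOver p'],
      (rdim R Q.asIdeal : Cardinal.{u}) = Algebra.trdeg (R ⧸ p') (S ⧸ Q.asIdeal) := fun p' h => by
    obtain rfl := Ideal.over_def Q.asIdeal p'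
    exact natCast_rdim Q.asIdeal
  rw [← hcast p] at key
  exact_mod_cast key

theorem rdim_lt_of_lt [Algebra.FiniteType R S] [IsDomain R]
    (hR : ∀ (p : Ideal R) [p.IsPrime], ValuationRing (Localization.AtPrime p)) (P Q : PrimeSpectrum S) (h : P < Q)
    (hu : P.asIdeal.under R = Q.asIdeal.under R) : rdim R Q.asIdeal < rdim R P.asIdeal := by
  let p : PrimeSpectrum R := comap (algebraMap R S) P
  have hQ : comap (algebraMap R S) Q = p := PrimeSpectrum.ext hu.symm
  let o := PrimeSpectrum.preimageOrderIsoFiber R S p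
  haveI : IsNoetherianRing (p.asIdeal.Fiber S) := Algebra.FiniteType.isNoetherianRing p.asIdeal.ResidueField _
  obtain ⟨c, hc, hcP⟩ := (set_has_maximal_iff_noetherian.mpr
    (inferInstance : IsNoetherianRing (p.asIdeal.Fiber S)))
    {J : Ideal (p.asIdeal.Fiber S) | (o ⟨P, rfl⟩).asIdeal ≤ J ∧ ∃ hJ : J.IsPrime, (⟨J, hJ⟩ : PrimeSpectrum _) < o ⟨Q, hQ⟩}
    ⟨_, le_rfl, (o ⟨P, rfl⟩).2, o.strictMono h⟩
  obtain ⟨hPc, hcp, hcQ⟩ := hc
  let W := o.symm ⟨c, hcp⟩
  have hWQ : W.1 < Q := by
    have := o.symm.strictMono hcQ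
    simpa [W] using! this
  have hPW : P ≤ W.1 := by
    have := o.symm.monotone (show o ⟨P, rfl⟩ ≤ ⟨c, hcp⟩ from hPc)
    simpa [W] using! this
  have hWu : W.1.asIdeal.under R = Q.asIdeal.under R :=
    (congrArg PrimeSpectrum.asIdeal W.2).trans hu
  have hcov : W.1 ⋖ Q := by
    refine ⟨hWQ, fun V hWV hVQ => ?_⟩
    have hVu : comap (algebraMap R S) V = p := PrimeSpectrum.ext <| le_antisymm
      ((Ideal.comap_mono hVQ.le).trans hu.ge) ((hWu.trans hu.symm).ge.trans (Ideal.comap_mono hWV.le))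
    refine hcP (o ⟨V, hVu⟩).asIdeal ⟨?_, (o ⟨V, hVu⟩).2, o.strictMono hVQ⟩ ?_
    · exact o.monotone (show (⟨P, rfl⟩ : ↑(comap (algebraMap R S) ⁻¹' {p})) ≤ ⟨V, hVu⟩ from hPW.trans hWV.le)
    · have := o.strictMono (show W < ⟨V, hVu⟩ from hWV)
      simpa [W] using! this
  have h1 := rdim_eq_succ W.1 Q hcov hWu
  have h2 := rdim_le_of_le hR (P := P.asIdeal) (Q := W.1.asIdeal) hPW
  omega

/-- A cover across fibres keeps the relative dimension. -/
theorem rdim_le_of_covBy [Algebra.FiniteType R S] (P Q : PrimeSpectrum S) (hPQ : P ⋖ Q)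
    (hu : P.asIdeal.under R ≠ Q.asIdeal.under R) : rdim R P.asIdeal ≤ rdim R Q.asIdeal := by
  classical
  let q : PrimeSpectrum R := comap (algebraMap R S) Q
  let o := PrimeSpectrum.preimageOrderIsoFiber R S q
  let C := q.asIdeal.Fiber S
  haveI : IsNoetherianRing C := Algebra.FiniteType.isNoetherianRing q.asIdeal.ResidueField _
  let I : Ideal C := P.asIdeal.map (Algebra.TensorProduct.includeRight : S →ₐ[R] C).toRingHom
  have ho : ∀ c : PrimeSpectrum C, ((o.symm c).1).asIdeal =
      c.asIdeal.comap (Algebra.TensorProduct.includeRight : S →ₐ[R] C).toRingHom := fun c => by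
    simp [o]; rfl
  let T := (Ideal.finite_minimalPrimes_of_isNoetherianRing C I).toFinset
  have hT : ∀ c ∈ T, ∃ g : S, g ∉ Q.asIdeal ∧ ∀ hc : c.IsPrime,
      g ∈ (o.symm ⟨c, hc⟩).1.asIdeal ∨ Q ≤ (o.symm ⟨c, hc⟩).1 := by
    intro c hc
    have hcp : c.IsPrime := ((Set.Finite.mem_toFinset _).1 hc).1.1
    by_cases hQc : Q ≤ (o.symm ⟨c, hcp⟩).1
    · exact ⟨1, fun h => Q.2.ne_top ((Ideal.eq_top_iff_one _).2 h), fun _ => Or.inr hQc⟩
    · -- otherwise the prime is not inside `Q`
      have hnle : ¬ (o.symm ⟨c, hcp⟩).1 ≤ Q := fun hle => by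
        have hP : P ≤ (o.symm ⟨c, hcp⟩).1 := by
          intro x hx
          rw [ho]
          exact ((Set.Finite.mem_toFinset _).1 hc).1.2 (Ideal.mem_map_of_mem _ hx)
        rcases eq_or_lt_of_le hP with e | e
        · refine hu ((congrArg (fun x => (comap (algebraMap R S) x).asIdeal) e).trans ?_)
          exact congrArg PrimeSpectrum.asIdeal (o.symm ⟨c, hcp⟩).2
        · rcases eq_or_lt_of_le hle with e' | e'
          · exact hQc e'.ge
          · exact hPQ.2 e e'
      obtain ⟨g, hg, hgQ⟩ := SetLike.not_le_iff_exists.1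
        (show ¬ (o.symm ⟨c, hcp⟩).1.asIdeal ≤ Q.asIdeal from hnle)
      exact ⟨g, hgQ, fun _ => Or.inl hg⟩
  choose! g hgQ hg using hT
  refine rdim_le_of_chains P Q hPQ.le (g := ∏ c ∈ T, g c) (fun h => ?_) fun l hl => ?_
  · obtain ⟨c, hc, h'⟩ := Ideal.IsPrime.prod_mem_iff.1 h
    exact hgQ c hc h'
  · refine length_le_rdim Q l (fun i => (hl i).1) ?_
    have hIle : I ≤ (o ⟨l 0, (hl 0).1⟩).asIdeal := by
      rw [Ideal.map_le_iff_le_comap, ← ho, OrderIso.symm_apply_apply]
      exact (hl 0).2.1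
    obtain ⟨c, hc, hcle⟩ := Ideal.exists_minimalPrimes_le hIle
    have hcp : c.IsPrime := hc.1.1
    have hle : (o.symm ⟨c, hcp⟩).1 ≤ l 0 := by
      have := o.symm.monotone (show (⟨c, hcp⟩ : PrimeSpectrum C) ≤ o ⟨l 0, (hl 0).1⟩ from hcle)
      rw [OrderIso.symm_apply_apply] at this
      exact this
    have hcT : c ∈ T := (Set.Finite.mem_toFinset _).2 hc
    rcases hg c hcT hcp with h | h
    · exact absurd (hle h) fun h' => (hl 0).2.2 (by
        rw [← Finset.prod_erase_mul T g hcT]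
        exact Ideal.mul_mem_left _ _ h')
    · exact h.trans hle

theorem flat_of_injective {A D : Type u} [CommRing A] [IsDomain A] [CommRing D] [IsDomain D] [Algebra A D]
    (hA : ∀ (q : Ideal A) [q.IsPrime], ValuationRing (Localization.AtPrime q))
    (hinj : Function.Injective (algebraMap A D)) : Module.Flat A D := by
  haveI : FaithfulSMul A D := (faithfulSMul_iff_algebraMap_injective _ _).2 hinj
  rw [Module.Flat.flat_iff_torsion_eq_bot_of_valuationRing_localization_isMaximal (fun M _ => hA M),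
    ← Submodule.isTorsionFree_iff_torsion_eq_bot]
  infer_instance

/-- Going down modulo a prime. -/
theorem exists_between [IsDomain R] (hR : ∀ (p : Ideal R) [p.IsPrime], ValuationRing (Localization.AtPrime p))
    (P Q : PrimeSpectrum S) (hPQ : P ≤ Q) (q₁ : PrimeSpectrum R) (h1 : comap (algebraMap R S) P ≤ q₁)
    (h2 : q₁ ≤ comap (algebraMap R S) Q) :
    ∃ Q₁ : PrimeSpectrum S, P ≤ Q₁ ∧ Q₁ ≤ Q ∧ comap (algebraMap R S) Q₁ = q₁ := by
  let p := P.asIdeal.under R
  haveI : P.asIdeal.LiesOver p := ⟨rfl⟩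
  haveI : IsDomain (R ⧸ p) := Ideal.Quotient.isDomain p
  have hR' : ∀ (q : Ideal (R ⧸ p)) [q.IsPrime], ValuationRing (Localization.AtPrime q) :=
    (H4Easy.prufer_loc R hR (nonZeroDivisors R) (FractionRing R) p).2
  haveI : IsDomain (S ⧸ P.asIdeal) := Ideal.Quotient.isDomain _
  haveI : Module.Flat (R ⧸ p) (S ⧸ P.asIdeal) :=
    flat_of_injective hR' (algebraMap_injective_quotient_under P.asIdeal)
  have hcm : (Q.asIdeal.map (Ideal.Quotient.mk P.asIdeal)).comap (Ideal.Quotient.mk P.asIdeal) = Q.asIdeal := by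
    rw [Ideal.comap_map_of_surjective _ Ideal.Quotient.mk_surjective, ← RingHom.ker_eq_comap_bot,
      Ideal.mk_ker, sup_eq_left.2 (show P.asIdeal ≤ Q.asIdeal from hPQ)]
  haveI : (Q.asIdeal.map (Ideal.Quotient.mk P.asIdeal)).IsPrime :=
    Ideal.map_isPrime_of_surjective Ideal.Quotient.mk_surjective (by rw [Ideal.mk_ker]; exact hPQ)
  haveI : (q₁.asIdeal.map (Ideal.Quotient.mk p)).IsPrime :=
    Ideal.map_isPrime_of_surjective Ideal.Quotient.mk_surjective (by rw [Ideal.mk_ker]; exact h1)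
  have hle : q₁.asIdeal.map (Ideal.Quotient.mk p) ≤
      (Q.asIdeal.map (Ideal.Quotient.mk P.asIdeal)).under (R ⧸ p) := by
    rw [Ideal.map_le_iff_le_comap]
    intro a ha
    rw [Ideal.mem_comap, Ideal.under_def, Ideal.mem_comap, Ideal.Quotient.algebraMap_mk_of_liesOver]
    exact Ideal.mem_map_of_mem _ (h2 ha)
  haveI : (Q.asIdeal.map (Ideal.Quotient.mk P.asIdeal)).LiesOver
      ((Q.asIdeal.map (Ideal.Quotient.mk P.asIdeal)).under (R ⧸ p)) := ⟨rfl⟩
  obtain ⟨J, hJ, hJp, hJo⟩ := Ideal.exists_ideal_le_liesOver_of_le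
    (S := S ⧸ P.asIdeal) (Q.asIdeal.map (Ideal.Quotient.mk P.asIdeal)) hle
  refine ⟨⟨J.comap (Ideal.Quotient.mk P.asIdeal), inferInstance⟩, fun x hx => ?_, ?_, ?_⟩
  · show Ideal.Quotient.mk P.asIdeal x ∈ J
    rw [Ideal.Quotient.eq_zero_iff_mem.2 hx]; exact zero_mem _
  · exact (Ideal.comap_mono hJ).trans hcm.le
  · refine PrimeSpectrum.ext (Ideal.ext fun a => ?_)
    show algebraMap (R ⧸ p) (S ⧸ P.asIdeal) (Ideal.Quotient.mk p a) ∈ J ↔ _
    rw [← Ideal.mem_comap, ← Ideal.under_def, ← hJo.over, ← Ideal.mem_comap,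
      Ideal.comap_map_of_surjective _ Ideal.Quotient.mk_surjective, ← RingHom.ker_eq_comap_bot,
      Ideal.mk_ker, sup_eq_left.2 (show p ≤ q₁.asIdeal from h1)]

end Groth.Agent.PruferDim
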