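import Groth.Agent.PruferDim.Basic
/-!
Covers, chains and dimension for finite type algebras over Prüfer domains of finite dimension.
-/
set_option autoImplicit false
set_option linter.style.haveILetI false
set_option backward.isDefEq.respectTransparency false
universe u
open PrimeSpectrum

namespace Groth.Agent.PruferDim

open Unibranch

variable {R S : Type u} [CommRing R] [CommRing S] [Algebra R S]

/-- The dimension function. -/
noncomputable def delta (P : PrimeSpectrum S) : ℤ :=
  (rdim R P.asIdeal : ℤ) - ((P.asIdeal.under R).height.toNat : ℤ)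

theorem rdim_le_gens (P : PrimeSpectrum S) {n : ℕ} (f : MvPolynomial (Fin n) R →ₐ[R] S)
    (hf : Function.Surjective f) [Algebra.FiniteType R S] : rdim R P.asIdeal ≤ n := by
  let p := P.asIdeal.under R
  let g : MvPolynomial (Fin n) (R ⧸ p) →ₐ[R ⧸ p] S ⧸ P.asIdeal :=
    MvPolynomial.aeval fun i => Ideal.Quotient.mk P.asIdeal (f (MvPolynomial.X i))
  have hg : Function.Surjective g := by
    intro x
    obtain ⟨x, rfl⟩ := Ideal.Quotient.mk_surjective x
    obtain ⟨y, rfl⟩ := hf x
    refine ⟨MvPolynomial.map (Ideal.Quotient.mk p) y, ?_⟩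
    have h : g.toRingHom.comp (MvPolynomial.map (Ideal.Quotient.mk p)) =
        (Ideal.Quotient.mk P.asIdeal).comp f.toRingHom := by
      refine MvPolynomial.ringHom_ext (fun a => ?_) (fun i => ?_)
      · simp only [RingHom.comp_apply, MvPolynomial.map_C, AlgHom.toRingHom_eq_coe, RingHom.coe_coe, g,
          MvPolynomial.aeval_C]
        rw [show f (MvPolynomial.C a) = algebraMap R S a from f.commutes a]
        rfl
      · simp [g]
    exact congr($h y)
  haveI : IsDomain (R ⧸ p) := Ideal.Quotient.isDomain p
  have h1 := lift_trdeg_le_of_surjective g hg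
  rw [MvPolynomial.trdeg_of_isDomain, ← natCast_rdim (A := R) P.asIdeal] at h1
  simpa using h1

variable [IsDomain R] (hR : ∀ (p : Ideal R) [p.IsPrime], ValuationRing (Localization.AtPrime p))
  (hdim : ringKrullDim R < ⊤)

include hdim in
theorem height_ne_top (p : PrimeSpectrum R) : p.asIdeal.height ≠ ⊤ := by
  intro h
  rw [height_eq_orderHeight] at h
  have h1 : ((Order.height p : ℕ∞) : WithBot ℕ∞) ≤ ringKrullDim R := Order.height_le_krullDim p
  rw [h] at h1
  exact absurd (h1.trans_lt hdim) (lt_irrefl _)

include hR in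
theorem le_or_le {p r q : PrimeSpectrum R} (hp : p ≤ q) (hr : r ≤ q) : p ≤ r ∨ r ≤ p := by
  by_contra! h
  obtain ⟨a, ha, har⟩ := SetLike.not_le_iff_exists.1 (show ¬ p.asIdeal ≤ r.asIdeal from h.1)
  obtain ⟨b, hb, hbp⟩ := SetLike.not_le_iff_exists.1 (show ¬ r.asIdeal ≤ p.asIdeal from h.2)
  haveI := hR q.asIdeal
  obtain ⟨i, -, t, ht, hdvd⟩ := exists_smul_dvd q.asIdeal (fun i : ULift.{u} Bool => if i.down then a else b)
    Finset.univ Finset.univ_nonempty
  obtain ⟨w, hw⟩ := hdvd ⟨!i.down⟩ (Finset.mem_univ _)
  obtain ⟨i⟩ := i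
  cases i <;> simp only [Bool.not_false, Bool.not_true, if_true, Bool.false_eq_true, if_false] at hw
  · exact ht (hr ((r.2.mem_or_mem (show t * a ∈ r.asIdeal from hw ▸ Ideal.mul_mem_right w _ hb)).resolve_right har))
  · exact ht (hp ((p.2.mem_or_mem (show t * b ∈ p.asIdeal from hw ▸ Ideal.mul_mem_right w _ ha)).resolve_right hbp))

variable [Algebra.FiniteType R S]

include hR hdim in
theorem delta_lt {P Q : PrimeSpectrum S} (h : P < Q) : delta (R := R) Q < delta (R := R) P := by
  let p := comap (algebraMap R S) P
  let q := comap (algebraMap R S) Q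
  have hle : p ≤ q := Ideal.comap_mono h.le
  have h1 := rdim_le_of_le hR (P := P.asIdeal) (Q := Q.asIdeal) h.le
  obtain ⟨a, ha⟩ := ENat.ne_top_iff_exists.1 (height_ne_top hdim p)
  obtain ⟨b, hb⟩ := ENat.ne_top_iff_exists.1 (height_ne_top hdim q)
  simp only [delta]
  rw [show (P.asIdeal.under R).height = a from ha.symm, show (Q.asIdeal.under R).height = b from hb.symm,
    ENat.toNat_natCast, ENat.toNat_natCast]
  rcases eq_or_lt_of_le hle with e | e
  · have h2 := rdim_lt_of_lt (R := R) hR P Q h (congrArg PrimeSpectrum.asIdeal e)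
    have : a = b := by exact_mod_cast (ha.trans (by rw [e])).trans hb.symm
    omega
  · have h2 : (a : ℕ∞) + 1 ≤ b := by
      rw [ha, hb, height_eq_orderHeight, height_eq_orderHeight]
      exact Order.height_add_one_le e
    have : a + 1 ≤ b := by exact_mod_cast h2
    omega

include hR hdim in
theorem delta_covBy {P Q : PrimeSpectrum S} (h : P ⋖ Q) : delta (R := R) P = delta (R := R) Q + 1 := by
  let p := comap (algebraMap R S) P
  let q := comap (algebraMap R S) Q
  have hle : p ≤ q := Ideal.comap_mono h.le
  obtain ⟨a, ha⟩ := ENat.ne_top_iff_exists.1 (height_ne_top hdim p)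
  obtain ⟨b, hb⟩ := ENat.ne_top_iff_exists.1 (height_ne_top hdim q)
  simp only [delta]
  rw [show (P.asIdeal.under R).height = a from ha.symm, show (Q.asIdeal.under R).height = b from hb.symm,
    ENat.toNat_natCast, ENat.toNat_natCast]
  rcases eq_or_lt_of_le hle with e | e
  · have h2 := rdim_eq_succ (R := R) P Q h (congrArg PrimeSpectrum.asIdeal e)
    have : a = b := by exact_mod_cast (ha.trans (by rw [e])).trans hb.symm
    omega
  · have h1 := rdim_le_of_le hR (P := P.asIdeal) (Q := Q.asIdeal) h.le
    have h2 := rdim_le_of_covBy (R := R) P Q h (fun e' => e.ne (PrimeSpectrum.ext e'))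
    have h3 : (a : ℕ∞) + 1 = b := by
      rw [ha, hb, height_eq_orderHeight, height_eq_orderHeight]
      refine le_antisymm (Order.height_add_one_le e) ?_
      rw [Order.height_eq_iSup_lt_height q]
      refine iSup₂_le fun r hr => add_le_add ?_ le_rfl
      refine Order.height_mono ?_
      by_contra hrp
      have hpr : p ≤ r := (le_or_le hR hle hr.le).resolve_right hrp
      obtain ⟨Q₁, hPQ₁, hQ₁Q, hQ₁⟩ := exists_between hR P Q h.le r hpr hr.le
      rcases eq_or_lt_of_le hPQ₁ with e₁ | e₁
      · exact hrp ((congrArg (comap (algebraMap R S)) e₁).trans hQ₁).ge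
      · rcases eq_or_lt_of_le hQ₁Q with e₂ | e₂
        · exact hr.ne (hQ₁.symm.trans (congrArg (comap (algebraMap R S)) e₂))
        · exact h.2 e₁ e₂
    have : a + 1 = b := by exact_mod_cast h3
    omega

include hR hdim in
theorem covBy_iff {P Q : PrimeSpectrum S} (h : P < Q) :
    P ⋖ Q ↔ delta (R := R) P = delta (R := R) Q + 1 := by
  refine ⟨delta_covBy hR hdim, fun he => ⟨h, fun V h1 h2 => ?_⟩⟩
  have := delta_lt hR hdim h1
  have := delta_lt hR hdim h2
  omega

include hR hdim in
theorem length_le (l : LTSeries (PrimeSpectrum S)) :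
    (l.length : ℤ) ≤ delta (R := R) l.head - delta (R := R) l.last := by
  have key : ∀ i : Fin (l.length + 1), (i : ℤ) ≤ delta (R := R) l.head - delta (R := R) (l i) := by
    intro i
    induction i using Fin.induction with
    | zero =>
      show (0 : ℤ) ≤ delta (R := R) (l 0) - delta (R := R) (l 0)
      omega
    | succ i ih =>
      have := delta_lt hR hdim (l.step i)
      simp only [Fin.val_succ, Fin.val_castSucc, RelSeries.head] at *
      push_cast
      omega
  simpa [RelSeries.last] using key (Fin.last _)

include hR hdim in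
theorem length_eq (l : LTSeries (PrimeSpectrum S)) (hl : ∀ i : Fin l.length, l (Fin.castSucc i) ⋖ l (Fin.succ i)) :
    (l.length : ℤ) = delta (R := R) l.head - delta (R := R) l.last := by
  have key : ∀ i : Fin (l.length + 1), (i : ℤ) = delta (R := R) l.head - delta (R := R) (l i) := by
    intro i
    induction i using Fin.induction with
    | zero =>
      show (0 : ℤ) = delta (R := R) (l 0) - delta (R := R) (l 0)
      omega
    | succ i ih =>
      have := delta_covBy hR hdim (hl i)
      simp only [Fin.val_succ, Fin.val_castSucc, RelSeries.head] at *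
      push_cast
      omega
  simpa [RelSeries.last] using key (Fin.last _)

omit [IsDomain R] in
theorem comap_localization {T : Type u} [CommRing T] [Algebra S T] (M : Submonoid S) [IsLocalization M T]
    {a b : PrimeSpectrum T} (h : a ⋖ b) : comap (algebraMap S T) a ⋖ comap (algebraMap S T) b := by
  have hinj := localization_comap_injective T M (R := S)
  refine ⟨lt_of_le_of_ne (Ideal.comap_mono h.le) fun e => h.1.ne (hinj e), fun V h1 h2 => ?_⟩
  have hd : Disjoint (M : Set S) (V.asIdeal : Set S) := by
    have hb : comap (algebraMap S T) b ∈ Set.range (comap (algebraMap S T)) := ⟨b, rfl⟩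
    rw [localization_comap_range T M] at hb
    exact Set.disjoint_of_subset_right h2.le hb
  obtain ⟨V', rfl⟩ : V ∈ Set.range (comap (algebraMap S T)) := by
    rw [localization_comap_range T M]; exact hd
  have hle : ∀ x y : PrimeSpectrum T, comap (algebraMap S T) x ≤ comap (algebraMap S T) y → x ≤ y :=
    fun x y hxy => by
      show x.asIdeal ≤ y.asIdeal
      rw [← IsLocalization.map_under M T x.asIdeal, ← IsLocalization.map_under M T y.asIdeal]
      exact Ideal.map_mono hxy
  exact h.2 (lt_of_le_of_ne (hle _ _ h1.le) fun e => h1.ne (by rw [e]))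
    (lt_of_le_of_ne (hle _ _ h2.le) fun e => h2.ne (by rw [e]))

end Groth.Agent.PruferDim
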